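import Groth.Agent.Lib.LMSimple8.QuadF0
import Groth.Agent.Lib.SheafVan16.Noetherian
import Groth.Agent.Lib.SmDim19.Basic
import Groth.Agent.Lib.VarDim.Top
import Groth.Agent.Lib.CohFound.ModQuot
import Groth.Prelude.Def_W4c3multigrregularBiProj

/-!
# Bigraded regularity of tensor products on the quadric

Cohomology vanishes above degree two, so the second cohomology is right exact; with global generation this
controls the kernel term in degree one.
-/

set_option autoImplicit false
set_option linter.style.haveILetI false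
set_option linter.unusedSectionVars false
set_option backward.isDefEq.respectTransparency false
set_option backward.isDefEq.respectTransparency.types false
set_option maxHeartbeats 1000000

universe u

open CategoryTheory CategoryTheory.Limits AlgebraicGeometry TopologicalSpace

noncomputable section

namespace Groth.Agent.BiReg11

open Groth.Agent Groth.Agent.LMSimple8.Quad

/-- A scheme smooth of relative dimension `n` over a field has dimension at most `n`. -/
theorem dim_le {k : Type u} [Field k] {X : Scheme.{u}} (f : X ⟶ Spec (CommRingCat.of k)) (n : ℕ)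
    [SmoothOfRelativeDimension n f] : topologicalKrullDim X ≤ n := by
  haveI : Smooth f := SmoothOfRelativeDimension.smooth n f
  haveI : JacobsonSpace X := LocallyOfFiniteType.jacobsonSpace f
  have e : topologicalKrullDim X = Order.krullDim X := by
    rw [VarDim.scheme_dim_eq_iSup_height, Order.krullDim_eq_iSup_height]
  rw [e, Order.krullDim_eq_iSup_coheight]
  refine iSup_le fun x => ?_
  obtain ⟨z, hz, hzc⟩ := nonempty_inter_closedPoints (X := X) (Z := closure ({x} : Set X))
    ⟨x, subset_closure rfl⟩ isClosed_closure.isLocallyClosed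
  have h1 := SmDim19.ringKrullDim_stalk_of_isClosed f n hzc
  rw [ringKrullDim_stalk_eq_coheight] at h1
  rw [← h1]
  exact WithBot.coe_le_coe.2 (Order.coheight_anti (show z ≤ x from specializes_iff_mem_closure.2 hz))

variable (k : Type u) [Field k]

theorem proper_XX : IsProper ((XX k) ↘ Spec (CommRingCat.of k)) := by
  haveI := Groth.Agent.ProjSpace.isProper_toSpec 1 k
  show IsProper (p₁ k ≫ CohB1.ProjSpace.toSpec 1 k)
  infer_instance

/-- Cohomology vanishes above the dimension. -/
theorem subsingleton_above (F : (XX k).Modules) {i : ℕ} (hi : 2 < i) : Subsingleton (Coh.HH (XX k) F i) := by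
  haveI := proper_XX k
  haveI : IsNoetherian (XX k) := CohFound.isNoetherian_of_isProper ((XX k) ↘ Spec (CommRingCat.of k))
  haveI h₁ := ProjSpace.smoothOfRelativeDimension_toSpec 1 k
  haveI : MorphismProperty.IsStableUnderBaseChange (@SmoothOfRelativeDimension.{u} 1) :=
    smoothOfRelativeDimension_isStableUnderBaseChange 1
  haveI : SmoothOfRelativeDimension 1 (p₁ k) :=
    MorphismProperty.pullback_fst (P := @SmoothOfRelativeDimension 1) (CohB1.ProjSpace.toSpec 1 k) (CohB1.ProjSpace.toSpec 1 k) h₁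
  haveI : SmoothOfRelativeDimension (1 + 1) (p₁ k ≫ CohB1.ProjSpace.toSpec 1 k) := inferInstance
  rw [CohFound.subsingleton_HH_iff]
  exact SheafVan16.van_of_supp (⊤ : Closeds (XX k)) 2
    (le_trans Topology.IsInducing.subtypeVal.topologicalKrullDim_le
      (dim_le (p₁ k ≫ CohB1.ProjSpace.toSpec 1 k) (1 + 1))) _
    (fun x hx => absurd (Set.mem_univ x) hx) i hi

/-- The second cohomology is right exact. -/
theorem h2_epi {Q G : (XX k).Modules} (p : Q ⟶ G) [Epi p] (h : Subsingleton (Coh.HH (XX k) Q 2)) :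
    Subsingleton (Coh.HH (XX k) G 2) := by
  let S : ShortComplex (XX k).Modules := ShortComplex.mk (kernel.ι p) p (kernel.condition p)
  have hS : S.ShortExact := ShortComplex.ShortExact.mk' (ShortComplex.exact_kernel p) inferInstance ‹_›
  haveI := subsingleton_above k S.X₁ (i := 3) (by norm_num)
  refine subsingleton_of_forall_eq 0 fun x => ?_
  obtain ⟨y, hy⟩ := (CurveCoh17.exact_hmap_hdelta k hS 2 x).1 (Subsingleton.elim (α := Coh.HH (XX k) S.X₁ 3) _ _)
  rw [← hy]
  exact (congrArg _ (h.elim y 0)).trans (map_zero _)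

theorem subsingleton_free_tensor (N : ℕ) (M : (XX k).Modules) (i : ℕ) (h : Subsingleton (Coh.HH (XX k) M i)) :
    Subsingleton (Coh.HH (XX k) (CohB1.tensorMod (FlatMod.freeMod (XX k) N) M) i) :=
  subsingleton_tensor_coprod k (L := Coh.structureModule (XX k)) (Iso.refl _)
    ((CurveCoh17.hequiv k (M2.tensorLUnit M) i).toEquiv.subsingleton_congr.2 h)

/-- Tensoring with a globally generated bundle preserves vanishing in degree two. -/
theorem h2_gg {G : (XX k).Modules} (hG : FlatMod.IsFinLocFree G) (hgg : Curv2.IsGloballyGenerated G)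
    (M : (XX k).Modules) (h : Subsingleton (Coh.HH (XX k) M 2)) :
    Subsingleton (Coh.HH (XX k) (CohB1.tensorMod G M) 2) := by
  haveI := proper_XX k
  haveI : IsNoetherian (XX k) := CohFound.isNoetherian_of_isProper ((XX k) ↘ Spec (CommRingCat.of k))
  obtain ⟨N, p, hp⟩ := CohFound.exists_epi_freeMod ((M1.isCoh_iff_isFP _).2 (M1.isFP_of_isFinLocFree hG)) hgg
  haveI : (M2.tensorR M).IsLeftAdjoint := CohMop.isLeftAdjoint_tenR M
  haveI : Epi ((M2.tensorR M).map p) := inferInstance
  exact h2_epi k ((M2.tensorR M).map p) (subsingleton_free_tensor k N M 2 h)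

/-- The degree one term. -/
theorem h1_gg {A B M : (XX k).Modules} (hA : FlatMod.IsFinLocFree A) (hA' : Curv2.IsGloballyGenerated A)
    (hB : FlatMod.IsFinLocFree B) (hB' : Curv2.IsGloballyGenerated B) (hM : PicF.IsInvertible M)
    (h1A : Subsingleton (Coh.HH (XX k) (CohB1.tensorMod A M) 1))
    (h1B : Subsingleton (Coh.HH (XX k) (CohB1.tensorMod B M) 1))
    (h2 : Subsingleton (Coh.HH (XX k) M 2)) :
    Subsingleton (Coh.HH (XX k) (CohB1.tensorMod A (CohB1.tensorMod B M)) 1) := by
  haveI := proper_XX k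
  haveI : IsNoetherian (XX k) := CohFound.isNoetherian_of_isProper ((XX k) ↘ Spec (CommRingCat.of k))
  obtain ⟨N, p, hp⟩ := CohFound.exists_epi_freeMod ((M1.isCoh_iff_isFP _).2 (M1.isFP_of_isFinLocFree hA)) hA'
  let S : ShortComplex (XX k).Modules := ShortComplex.mk (kernel.ι p) p (kernel.condition p)
  have hS : S.ShortExact := ShortComplex.ShortExact.mk' (ShortComplex.exact_kernel p) inferInstance hp
  have hSM := CohFound.shortExact_tensor_invertible hS hM
  haveI hK : Subsingleton (Coh.HH (XX k) (CohB1.tensorMod S.X₁ M) 2) := by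
    refine subsingleton_of_forall_eq 0 fun x => ?_
    obtain ⟨y, hy⟩ := (CurveCoh17.exact_hdelta_hmap k hSM 1 x).1
      ((subsingleton_free_tensor k N M 2 h2).elim _ _)
    rw [← hy]
    exact (congrArg _ (h1A.elim y 0)).trans (map_zero _)
  have hflat : ∀ x, Module.Flat ((XX k).presheaf.stalk x) ((CohB1.tensorMod B M).presheaf.stalk x) := fun x => by
    obtain ⟨-, hfree⟩ := (M1.isFinLocFree_iff _).1 (M2.isFinLocFree_tensor hB (M2.isFinLocFree_of_isInvertible hM))
    haveI := hfree x
    infer_instance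
  have hT := CurveCoh17.shortExact_tensorR hS (CohB1.tensorMod B M) hflat
  haveI hK' : Subsingleton (Coh.HH (XX k) (CohB1.tensorMod S.X₁ (CohB1.tensorMod B M)) 2) :=
    (CurveCoh17.hequiv k (M2.tensorComm _ _ ≪≫ M2.tensorAssoc _ _ _ ≪≫
      M2.tensorIso (Iso.refl B) (M2.tensorComm _ _)) 2).toEquiv.subsingleton_congr.2 (h2_gg k hB hB' _ hK)
  refine subsingleton_of_forall_eq 0 fun x => ?_
  obtain ⟨y, hy⟩ := (CurveCoh17.exact_hmap_hdelta k hT 1 x).1 (hK'.elim _ _)
  rw [← hy]
  exact (congrArg _ ((subsingleton_free_tensor k N _ 1 h1B).elim y 0)).trans (map_zero _)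

/-- Regularity of a tensor product. -/
theorem isBiReg_tensor {G₁ G₂ : (XX k).Modules} (hG₁ : FlatMod.IsFinLocFree G₁) (hG₂ : FlatMod.IsFinLocFree G₂)
    (p q m n : ℤ) (hreg₁ : W4c3multigrregular.IsBiReg 1 1 k G₁ p q)
    (hreg₂ : W4c3multigrregular.IsBiReg 1 1 k G₂ m n)
    (hgg₁ : Curv2.IsGloballyGenerated (W4c3multigrregular.twistBi 1 1 k G₁ p q))
    (hgg₂ : Curv2.IsGloballyGenerated (W4c3multigrregular.twistBi 1 1 k G₂ m n)) :
    W4c3multigrregular.IsBiReg 1 1 k (CohB1.tensorMod G₁ G₂) (p + m) (q + n) := by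
  intro u₁ u₂ hu
  let A := CohB1.tensorMod G₁ (Ob k p q)
  let B := CohB1.tensorMod G₂ (Ob k m n)
  let M := Ob k (-(u₁ : ℤ)) (-(u₂ : ℤ))
  have hA : FlatMod.IsFinLocFree A := M2.isFinLocFree_tensor hG₁ (M2.isFinLocFree_of_isInvertible (isInvertible_Ob k p q))
  have hB : FlatMod.IsFinLocFree B := M2.isFinLocFree_tensor hG₂ (M2.isFinLocFree_of_isInvertible (isInvertible_Ob k m n))
  have key : ∀ (G : (XX k).Modules) (a b : ℤ),
      Nonempty (CohB1.tensorMod (CohB1.tensorMod G (Ob k a b)) M ≅ CohB1.tensorMod G (Ob k (a - u₁) (b - u₂))) := fun G a b => by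
    obtain ⟨t⟩ := nonempty_Ob_tensor k a b (-(u₁ : ℤ)) (-(u₂ : ℤ))
    exact ⟨M2.tensorAssoc _ _ _ ≪≫ M2.tensorIso (Iso.refl G) (t ≪≫ eqToIso (by rw [← sub_eq_add_neg, ← sub_eq_add_neg]))⟩
  obtain ⟨eB⟩ := key G₂ m n
  obtain ⟨eA⟩ := key G₁ p q
  obtain ⟨t⟩ := nonempty_Ob_tensor k p q (m - u₁) (n - u₂)
  let e : CohB1.tensorMod A (CohB1.tensorMod B M) ≅
      CohB1.tensorMod (CohB1.tensorMod G₁ G₂) (Ob k (p + m - u₁) (q + n - u₂)) :=
    M2.tensorIso (Iso.refl A) eB ≪≫ M2.tensorInterchange _ _ _ _ ≪≫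
      M2.tensorIso (Iso.refl _) (t ≪≫ eqToIso (by rw [add_sub_assoc, add_sub_assoc]))
  refine (CurveCoh17.hequiv k e (u₁ + u₂)).toEquiv.subsingleton_congr.1 ?_
  have h₁ := (CurveCoh17.hequiv k eA (u₁ + u₂)).toEquiv.subsingleton_congr.2 (hreg₁ u₁ u₂ hu)
  have h₂ := (CurveCoh17.hequiv k eB (u₁ + u₂)).toEquiv.subsingleton_congr.2 (hreg₂ u₁ u₂ hu)
  rcases (by omega : u₁ + u₂ = 1 ∨ u₁ + u₂ = 2 ∨ 2 < u₁ + u₂) with h | h | h
  · rw [h] at h₁ h₂ ⊢
    exact h1_gg k hA hgg₁ hB hgg₂ (isInvertible_Ob k _ _) h₁ h₂ (subsingleton_Ob k _ _ 2 fun p hp => by omega)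
  · rw [h] at h₂ ⊢
    exact h2_gg k hA hgg₁ _ h₂
  · exact subsingleton_above k _ h

end Groth.Agent.BiReg11

end
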